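import Cfsg.Agent.KFacts.MulM23.Split
import Cfsg.Agent.KFacts.MulSmall
import Cfsg.Agent.KFacts.MulDef
import Cfsg.Agent.SporadicStructure.M24El
import Cfsg.Agent.SporadicA.MathieuRecog
import Cfsg.Prelude.Def_Spor_Mathieu

/-!
# The group `M23` has no perfect double cover (helper40)
-/

set_option autoImplicit false
set_option Elab.async false

namespace Cfsg.Agent.KFacts.MulM23.Main

open Cfsg Cfsg.Spor Cfsg.Agent.SporadicA.GolayBase Cfsg.Agent.SporadicA.GolayPerm
open Cfsg.Agent.SporadicStructure.M24El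
open Cfsg.Agent.KFacts.MulCov Cfsg.Agent.KFacts.MulDef Cfsg.Agent.KFacts.MulSmall

/-! ### Packed elements of `M23` -/

/-- Whether `P` packs an element of `M23`. -/
def ok3 (P : ℕ) : Bool := ok P && Nat.beq (papp P 23) 23

theorem ok3_iff {P : ℕ} : ok3 P = true ↔ ok P = true ∧ papp P 23 = 23 := by
  unfold ok3
  rw [Bool.and_eq_true]
  exact and_congr_right fun _ => ⟨Nat.eq_of_beq_eq_true, fun h => by rw [h]; rfl⟩

theorem mem_M23 {P : ℕ} (h : ok3 P = true) : (el P : Equiv.Perm GolayPt) ∈ M23 := by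
  obtain ⟨h1, h2⟩ := ok3_iff.1 h
  refine ⟨(el P).2, ?_⟩
  show (el P : Equiv.Perm GolayPt) ∈ MulAction.stabilizer (Equiv.Perm GolayPt) (none : GolayPt)
  rw [MulAction.mem_stabilizer_iff]
  have h3 := idx_el_smul h1 none
  have h4 : idx none = 23 := rfl
  rw [h4, h2] at h3
  have h5 : pt (idx (el P • none)) = pt 23 := by rw [h3]
  rw [pt_idx] at h5
  exact h5

open Classical in
/-- The element of `M23` packed in `P`. -/
noncomputable def e3 (P : ℕ) : M23 := if h : ok3 P = true then ⟨(el P : Equiv.Perm GolayPt), mem_M23 h⟩ else 1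

theorem coe_e3 {P : ℕ} (h : ok3 P = true) : (e3 P : Equiv.Perm GolayPt) = el P := by
  unfold e3
  rw [dif_pos h]

theorem papp_pcomp {P Q : ℕ} (hP : ok P = true) (hQ : ok Q = true) {i : ℕ} (hi : i < 24) :
    papp (pcomp P Q) i = papp P (papp Q i) := by
  have h1 := idx_el_smul (ok_pcomp hP hQ) (pt i)
  rw [el_pcomp hP hQ, mul_smul, idx_el_smul hP, idx_el_smul hQ, idx_pt hi] at h1
  exact h1.symm

theorem ok3_pcomp {P Q : ℕ} (hP : ok3 P = true) (hQ : ok3 Q = true) : ok3 (pcomp P Q) = true := by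
  obtain ⟨h1, h2⟩ := ok3_iff.1 hP
  obtain ⟨h3, h4⟩ := ok3_iff.1 hQ
  refine ok3_iff.2 ⟨ok_pcomp h1 h3, ?_⟩
  rw [papp_pcomp h1 h3 (by norm_num), h4, h2]

theorem e3_pcomp {P Q : ℕ} (hP : ok3 P = true) (hQ : ok3 Q = true) : e3 (pcomp P Q) = e3 P * e3 Q := by
  apply Subtype.ext
  rw [Subgroup.coe_mul, coe_e3 (ok3_pcomp hP hQ), coe_e3 hP, coe_e3 hQ, el_pcomp (ok3_iff.1 hP).1 (ok3_iff.1 hQ).1,
    Subgroup.coe_mul]

theorem ok3_idP : ok3 idP = true := by decide +kernel

theorem e3_idP : e3 idP = 1 := by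
  apply Subtype.ext
  rw [coe_e3 ok3_idP, el_idP]; rfl

theorem mul_eq {P Q P' Q' : ℕ} (h1 : ok3 P = true) (h2 : ok3 Q = true) (h3 : ok3 P' = true) (h4 : ok3 Q' = true)
    (h : pcomp P Q = pcomp P' Q') : e3 P * e3 Q = e3 P' * e3 Q' := by
  rw [← e3_pcomp h1 h2, ← e3_pcomp h3 h4, h]

theorem mul_eq1 {P Q R : ℕ} (h1 : ok3 P = true) (h2 : ok3 Q = true) (h : pcomp P Q = R) : e3 P * e3 Q = e3 R := by
  rw [← e3_pcomp h1 h2, h]

theorem ne_of_app {P Q : ℕ} (h1 : ok3 P = true) (h2 : ok3 Q = true) {i : ℕ} (hi : i < 24)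
    (h : papp P i ≠ papp Q i) : e3 P ≠ e3 Q := by
  intro he
  have h3 : (el P : Equiv.Perm GolayPt) = el Q := by rw [← coe_e3 h1, ← coe_e3 h2, he]
  have h4 : el P = el Q := Subtype.ext h3
  have h5 := idx_el_smul (ok3_iff.1 h1).1 (pt i)
  have h6 := idx_el_smul (ok3_iff.1 h2).1 (pt i)
  rw [idx_pt hi] at h5 h6
  exact h (by rw [← h5, ← h6, h4])

/-- packed permutations which differ somewhere -/
def df (P Q : ℕ) : Bool := !((List.range 24).all fun i => Nat.beq (papp P i) (papp Q i))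

theorem ne_of_df {P Q : ℕ} (h1 : ok3 P = true) (h2 : ok3 Q = true) (h : df P Q = true) : e3 P ≠ e3 Q := by
  intro he
  unfold df at h
  rw [Bool.not_eq_true', ← Bool.not_eq_true, List.all_eq_true] at h
  apply h
  intro i hi
  have hi' : i < 24 := List.mem_range.1 hi
  by_contra hne
  refine ne_of_app h1 h2 hi' (fun h7 => hne ?_) he
  rw [h7]; exact Nat.beq_refl _

/-! ### Subgroups given by lists -/

/-- checks for a list of packed elements to be a subgroup with `l.length` elements -/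
def okl (l : List ℕ) : Bool :=
  (l.all fun P => ok3 P) && (l.any fun P => Nat.beq P idP) &&
  (l.all fun P => l.all fun Q => l.any fun R => Nat.beq (pcomp P Q) R) &&
  (l.all fun P => l.any fun Q => Nat.beq (pcomp P Q) idP) &&
  (l.all fun P => l.all fun Q => Nat.beq P Q || df P Q)

theorem okl_iff {l : List ℕ} (h : okl l = true) : (∀ P ∈ l, ok3 P = true) ∧ idP ∈ l ∧
    (∀ P ∈ l, ∀ Q ∈ l, pcomp P Q ∈ l) ∧ (∀ P ∈ l, ∃ Q ∈ l, pcomp P Q = idP) ∧
    (∀ P ∈ l, ∀ Q ∈ l, P = Q ∨ df P Q = true) := by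
  unfold okl at h
  simp only [Bool.and_eq_true, List.all_eq_true, List.any_eq_true, Bool.or_eq_true] at h
  obtain ⟨⟨⟨⟨h1, h2⟩, h3⟩, h4⟩, h5⟩ := h
  refine ⟨h1, ?_, ?_, ?_, ?_⟩
  · obtain ⟨P, hP, h6⟩ := h2
    rw [Nat.eq_of_beq_eq_true h6] at hP
    exact hP
  · intro P hP Q hQ
    obtain ⟨R, hR, h6⟩ := h3 P hP Q hQ
    rw [Nat.eq_of_beq_eq_true h6]; exact hR
  · intro P hP
    obtain ⟨Q, hQ, h6⟩ := h4 P hP
    exact ⟨Q, hQ, Nat.eq_of_beq_eq_true h6⟩
  · intro P hP Q hQ
    exact (h5 P hP Q hQ).imp Nat.eq_of_beq_eq_true id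

/-- the subgroup of a list -/
noncomputable def lsub (l : List ℕ) (h : okl l = true) : Subgroup M23 where
  carrier := {x | ∃ P ∈ l, x = e3 P}
  one_mem' := ⟨idP, (okl_iff h).2.1, e3_idP.symm⟩
  mul_mem' := by
    obtain ⟨h1, -, h3, -, -⟩ := okl_iff h
    rintro _ _ ⟨P, hP, rfl⟩ ⟨Q, hQ, rfl⟩
    exact ⟨_, h3 P hP Q hQ, (e3_pcomp (h1 P hP) (h1 Q hQ)).symm⟩
  inv_mem' := by
    obtain ⟨h1, -, -, h4, -⟩ := okl_iff h
    rintro _ ⟨P, hP, rfl⟩
    obtain ⟨Q, hQ, h6⟩ := h4 P hP
    refine ⟨Q, hQ, ?_⟩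
    apply inv_eq_of_mul_eq_one_right
    rw [mul_eq1 (h1 P hP) (h1 Q hQ) h6, e3_idP]

theorem mem_lsub {l : List ℕ} {h : okl l = true} {x : M23} : x ∈ lsub l h ↔ ∃ P ∈ l, x = e3 P := Iff.rfl

theorem card_lsub {l : List ℕ} (h : okl l = true) (hnd : l.Nodup) : Nat.card (lsub l h) = l.length := by
  classical
  obtain ⟨h1, -, -, -, h5⟩ := okl_iff h
  have hinj : Set.InjOn e3 (l.toFinset : Set ℕ) := by
    intro P hP Q hQ he
    have hP' : P ∈ l := by simpa using hP
    have hQ' : Q ∈ l := by simpa using hQ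
    rcases h5 P hP' Q hQ' with h6 | h6
    · exact h6
    · exact absurd he (ne_of_df (h1 P hP') (h1 Q hQ') h6)
  have hset : ((lsub l h : Subgroup M23) : Set M23) = ((l.toFinset.image e3 : Finset M23) : Set M23) := by
    ext x
    rw [SetLike.mem_coe, mem_lsub, Finset.coe_image, Set.mem_image]
    constructor
    · rintro ⟨P, hP, rfl⟩
      exact ⟨P, by simpa using hP, rfl⟩
    · rintro ⟨P, hP, rfl⟩
      exact ⟨P, by simpa using hP, rfl⟩
  have h6 : Nat.card (lsub l h) = Nat.card ((l.toFinset.image e3 : Finset M23) : Set M23) := by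
    rw [← hset]; rfl
  rw [h6, Nat.card_coe_set_eq, Set.ncard_coe_finset, Finset.card_image_of_injOn hinj, List.toFinset_card_of_nodup hnd]

/-! ### Data -/

/-- the elementary abelian subgroup of order 16 -/
def LE : List ℕ := [
  955652119563602851545591037621815766, 957234163335523352510401622987349710, 958491654123029776345535349027625202,
  961331217541610709753494514503358636, 962507587201977599580186939218838667, 963197187851499339712709248346591797,
  964941477668940595995134250890396751, 969971519506274857878344807106065797, 971066755891891694023351105442927972,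
  972324263468604255511164231271689905, 974271378078775784296264517851134977, 975082666687842886276911085363771975,
  978043911255877177764005619541578957, 978936350469804472419429034862150114, 983560717692735993919980769309208998,
  984818244535754528103549039458486304]

/-- a dihedral group of order 8 normalising it -/
def LD : List ℕ := [
  984818244535754528103549039458486304, 983944856677099276733953317981666741, 984802378476862084643019760215902752,
  983964676057856450028238450158343637, 983951162859503667411430328421686325, 984817008955239316910482038318174624,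
  983965735270375015402876773684850229, 984796241234587437614214050742940096]

/-- an element of order three -/
def pf : ℕ := 956301169970512974660273152015317493

/-- its inverse -/
def pfi : ℕ := 982668294989717438909936325239090582

/-- involutions -/
def ps : ℕ := 983951162859503667411430328421686325

/-- involutions -/
def pt' : ℕ := 984796241234587437614214050742940096

/-- an element of order seven -/
def ph : ℕ := 964960137530830566485216995074944709

/-- seven involutions permuted by `ph` -/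
def LA : List ℕ := [
  969971519506274857878344807106065797, 958491654123029776345535349027625202, 983560717692735993919980769309208998,
  972324263468604255511164231271689905, 971066755891891694023351105442927972, 957234163335523352510401622987349710,
  964941477668940595995134250890396751]

/-- involutions `y` with an element conjugating the first of `LA` to `y` -/
def LC : List (ℕ × ℕ) := [
  (978936350469804472419429034862150114, 979301293094926526392802369145702764),
  (961331217541610709753494514503358636, 982938310600562927165076557419319654),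
  (974271378078775784296264517851134977, 964570877091873898425594758168172550),
  (975082666687842886276911085363771975, 974176934076786869875305239772711153),
  (957234163335523352510401622987349710, 957990839584231609010620793956348470),
  (972324263468604255511164231271689905, 971410339533911541268519192669816230),
  (971066755891891694023351105442927972, 974947054069569573322459569784469060),
  (963197187851499339712709248346591797, 975040736413184458714116629330544294),
  (958491654123029776345535349027625202, 979219064159674054772146453771458247),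
  (964941477668940595995134250890396751, 978322393298520007553969760525162882),
  (955652119563602851545591037621815766, 982829928988745352149168228866294349),
  (983560717692735993919980769309208998, 955570883029723722760391661476658637),
  (978043911255877177764005619541578957, 958730033742523442685698245989094447),
  (962507587201977599580186939218838667, 971822310392342529164459648353829286),
  (983951162859503667411430328421686325, 965204007771776516607575552873935029),
  (984796241234587437614214050742940096, 962631881778480255493914296236326289),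
  (984802378476862084643019760215902752, 971311541113673127665412584565131889)]

theorem okE : okl LE = true := by decide +kernel
theorem okD : okl LD = true := by decide +kernel

theorem nodupE : LE.Nodup := by decide +kernel
theorem nodupD : LD.Nodup := by decide +kernel

theorem okG : (ok3 pf && ok3 pfi && ok3 ps && ok3 pt' && ok3 ph && (LA.all fun P => ok3 P) &&
    (LC.all fun P => ok3 P.1 && ok3 P.2)) = true := by decide +kernel

theorem chkA : (((List.range 6).all fun i =>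
    Nat.beq (pcomp ph (LA.getD i idP)) (pcomp (LA.getD (i + 1) idP) ph)) &&
  Nat.beq (pcomp (LA.getD 0 idP) (LA.getD 0 idP)) idP && Nat.beq (pcomp (LA.getD 0 idP) (LA.getD 1 idP)) (LA.getD 3 idP) &&
  Nat.beq (pcomp (LA.getD 0 idP) (LA.getD 2 idP)) (LA.getD 6 idP) &&
  Nat.beq (pcomp (LA.getD 1 idP) (LA.getD 2 idP)) (LA.getD 4 idP) &&
  Nat.beq (pcomp (LA.getD 0 idP) (LA.getD 4 idP)) (LA.getD 5 idP)) = true := by decide +kernel

theorem chkC : (LC.all fun P => Nat.beq (pcomp P.2 (LA.getD 0 idP)) (pcomp P.1 P.2)) = true := by decide +kernel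

/-- every element of `LE` is trivial, the first of `LA` or in `LC` -/
theorem chkE : (LE.all fun P => Nat.beq P idP || Nat.beq P (LA.getD 0 idP) || LC.any fun Q => Nat.beq Q.1 P) = true := by
  decide +kernel

theorem chkF : (LE.all fun P => (LE.any fun Q => Nat.beq (pcomp pf P) (pcomp Q pf)) &&
    (LE.any fun Q => Nat.beq (pcomp P pf) (pcomp pf Q)) && (LE.any fun Q => Nat.beq (pcomp Q pf) (pcomp P (pcomp pf Q))) &&
    (LE.any fun Q => Nat.beq (pcomp ps P) (pcomp Q ps)) && (LE.any fun Q => Nat.beq (pcomp pt' P) (pcomp Q pt')) &&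
    (Nat.beq P idP || df (pcomp P pf) (pcomp pf P))) = true := by decide +kernel

theorem chkD : LD = [idP, pcomp ps pt', pcomp (pcomp ps pt') (pcomp ps pt'),
    pcomp (pcomp (pcomp ps pt') (pcomp ps pt')) (pcomp ps pt'), ps, pcomp (pcomp ps pt') ps,
    pcomp (pcomp (pcomp ps pt') (pcomp ps pt')) ps,
    pcomp (pcomp (pcomp (pcomp ps pt') (pcomp ps pt')) (pcomp ps pt')) ps] := by decide +kernel

theorem chkDE : (LD.all fun P => Nat.beq P idP || LE.all fun Q => df P Q) = true := by decide +kernel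

theorem chkDn : (LD.all fun P => LE.all fun Q => LE.any fun R => Nat.beq (pcomp P Q) (pcomp R P)) = true := by
  decide +kernel

theorem chkSF : (Nat.beq (pcomp ps pf) (pcomp pfi ps) && Nat.beq (pcomp pt' pf) (pcomp pf pt') &&
    Nat.beq (pcomp pf pfi) idP && Nat.beq (pcomp ps ps) idP && Nat.beq (pcomp pt' pt') idP &&
    Nat.beq (pcomp (pcomp (pcomp ps pt') (pcomp ps pt')) (pcomp (pcomp ps pt') (pcomp ps pt'))) idP &&
    (LC.any fun Q => Nat.beq Q.1 ps) && (LC.any fun Q => Nat.beq Q.1 pt') &&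
    (LC.any fun Q => Nat.beq Q.1 (pcomp (pcomp ps pt') (pcomp ps pt')))) = true := by decide +kernel

/-! ### The theorem -/

theorem okl_E {P : ℕ} (h : P ∈ LE) : ok3 P = true := (okl_iff okE).1 P h
theorem okl_D {P : ℕ} (h : P ∈ LD) : ok3 P = true := (okl_iff okD).1 P h

theorem ok_f : ok3 pf = true := by have := okG; simp only [Bool.and_eq_true] at this; exact this.1.1.1.1.1.1
theorem ok_fi : ok3 pfi = true := by have := okG; simp only [Bool.and_eq_true] at this; exact this.1.1.1.1.1.2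
theorem ok_s : ok3 ps = true := by have := okG; simp only [Bool.and_eq_true] at this; exact this.1.1.1.1.2
theorem ok_t : ok3 pt' = true := by have := okG; simp only [Bool.and_eq_true] at this; exact this.1.1.1.2
theorem ok_h : ok3 ph = true := by have := okG; simp only [Bool.and_eq_true] at this; exact this.1.1.2
theorem ok_A : ∀ P ∈ LA, ok3 P = true := by
  have := okG; simp only [Bool.and_eq_true, List.all_eq_true] at this; exact this.1.2
theorem ok_C : ∀ P ∈ LC, ok3 P.1 = true ∧ ok3 P.2 = true := by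
  have := okG; simp only [Bool.and_eq_true, List.all_eq_true] at this; exact this.2

theorem ok_Ai (i : ℕ) : ok3 (LA.getD i idP) = true := by
  by_cases hi : i < LA.length
  · rw [List.getD_eq_getElem _ _ hi]
    exact ok_A _ (List.getElem_mem hi)
  · rw [List.getD_eq_default _ _ (by omega)]
    exact ok3_idP

section

variable {L : Type*} [Group L] {π : L →* M23} {c : L}

theorem good_A (h : Ext π c) : Good π (e3 (LA.getD 0 idP)) := by
  have hk := chkA
  simp only [Bool.and_eq_true, List.all_eq_true, List.mem_range] at hk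
  obtain ⟨⟨⟨⟨⟨hc, h0⟩, h1⟩, h2⟩, h3⟩, h4⟩ := hk
  refine h.good_of_singer (g := e3 ph) (fun i => e3 (LA.getD i idP)) ?_ ?_ ?_ ?_ ?_ ?_
  · intro i hi
    exact mul_eq ok_h (ok_Ai i) (ok_Ai (i + 1)) ok_h (Nat.eq_of_beq_eq_true (hc i hi))
  · rw [mul_eq1 (ok_Ai 0) (ok_Ai 0) (Nat.eq_of_beq_eq_true h0), e3_idP]
  · exact mul_eq1 (ok_Ai 0) (ok_Ai 1) (Nat.eq_of_beq_eq_true h1)
  · exact mul_eq1 (ok_Ai 0) (ok_Ai 2) (Nat.eq_of_beq_eq_true h2)
  · exact mul_eq1 (ok_Ai 1) (ok_Ai 2) (Nat.eq_of_beq_eq_true h3)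
  · exact mul_eq1 (ok_Ai 0) (ok_Ai 4) (Nat.eq_of_beq_eq_true h4)

theorem good_C (h : Ext π c) {P : ℕ} (hP : (LC.any fun Q => Nat.beq Q.1 P) = true) : Good π (e3 P) := by
  rw [List.any_eq_true] at hP
  obtain ⟨Q, hQ, hQP⟩ := hP
  have hQP' : Q.1 = P := Nat.eq_of_beq_eq_true hQP
  subst hQP'
  have hk := chkC
  rw [List.all_eq_true] at hk
  have h1 := Nat.eq_of_beq_eq_true (hk Q hQ)
  have h2 := mul_eq (ok_C Q hQ).2 (ok_Ai 0) (ok_C Q hQ).1 (ok_C Q hQ).2 h1
  have h3 : e3 (LA.getD 0 idP) * e3 (LA.getD 0 idP) = 1 := by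
    obtain ⟨x, hx⟩ := h.surj (e3 (LA.getD 0 idP))
    rw [← hx, ← map_mul, good_A h x hx, map_one]
  exact (good_A h).of_isConj h h3 (isConj_iff.2 ⟨e3 Q.2, by rw [h2, mul_inv_cancel_right]⟩)

theorem good_E (h : Ext π c) {P : ℕ} (hP : P ∈ LE) : Good π (e3 P) := by
  have hk := chkE
  rw [List.all_eq_true] at hk
  have h1 := hk P hP
  rw [Bool.or_eq_true, Bool.or_eq_true] at h1
  rcases h1 with (h1 | h1) | h1
  · rw [Nat.eq_of_beq_eq_true h1, e3_idP]
    intro x hx
    rcases (h.ker x).1 hx with rfl | rfl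
    · rw [one_mul]
    · exact h.sq
  · rw [Nat.eq_of_beq_eq_true h1]; exact good_A h
  · exact good_C h h1

end

theorem card_eq : Nat.card M23 = 2 ^ 7 * 79695 := by
  rw [Cfsg.Agent.SporadicA.MathieuRecog.card_M23]; norm_num

theorem index_odd : ¬ 2 ∣ (lsub LE okE ⊔ lsub LD okD).index := by
  refine not_two_dvd_index (n := 7) (m := 79695) ?_ card_eq (by decide)
  set E := lsub LE okE with hE
  set D := lsub LD okD with hD
  have hcE : Nat.card E = 16 := card_lsub okE nodupE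
  have hcD : Nat.card D = 8 := card_lsub okD nodupD
  have hn : D ≤ Subgroup.normalizer (E : Set M23) := by
    intro x hx
    have key : ∀ y ∈ D, ∀ a ∈ E, y * a * y⁻¹ ∈ E := by
      rintro _ ⟨P, hP, rfl⟩ _ ⟨Q, hQ, rfl⟩
      have hk := chkDn
      rw [List.all_eq_true] at hk
      have h1 := hk P hP
      rw [List.all_eq_true] at h1
      have h2 := h1 Q hQ
      rw [List.any_eq_true] at h2
      obtain ⟨R, hR, h3⟩ := h2
      refine ⟨R, hR, ?_⟩
      rw [mul_eq (okl_D hP) (okl_E hQ) (okl_E hR) (okl_D hP) (Nat.eq_of_beq_eq_true h3), mul_inv_cancel_right]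
    rw [Subgroup.mem_normalizer_iff]
    intro a
    refine ⟨key x hx a, fun h1 => ?_⟩
    have h2 := key x⁻¹ (inv_mem hx) _ h1
    have e : x⁻¹ * (x * a * x⁻¹) * (x⁻¹)⁻¹ = a := by group
    rwa [e] at h2
  have hdis : ∀ x ∈ E, x ∈ D → x = 1 := by
    rintro _ ⟨Q, hQ, rfl⟩ ⟨P, hP, h1⟩
    have hk := chkDE
    rw [List.all_eq_true] at hk
    have h2 := hk P hP
    rw [Bool.or_eq_true] at h2
    rcases h2 with h2 | h2
    · rw [h1, Nat.eq_of_beq_eq_true h2, e3_idP]
    · rw [List.all_eq_true] at h2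
      exact absurd h1.symm (ne_of_df (okl_D hP) (okl_E hQ) (h2 Q hQ))
  set K := E ⊔ D with hK
  have hEn : (E.subgroupOf K).Normal := by
    rw [Subgroup.normal_subgroupOf_iff_le_normalizer le_sup_left, sup_le_iff]
    exact ⟨Subgroup.le_normalizer, hn⟩
  have hcomp : Subgroup.IsComplement' (E.subgroupOf K) (D.subgroupOf K) := by
    apply Subgroup.isComplement'_of_disjoint_and_mul_eq_univ
    · rw [Subgroup.disjoint_def]
      intro x hx hx'
      exact Subtype.ext (hdis x (Subgroup.mem_subgroupOf.1 hx) (Subgroup.mem_subgroupOf.1 hx'))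
    · rw [← Subgroup.normal_mul, ← Subgroup.subgroupOf_sup le_sup_left le_sup_right, Subgroup.subgroupOf_self]
      rfl
  have h1 := hcomp.card_mul_card
  rw [Nat.card_congr (Subgroup.subgroupOfEquivOfLe (show E ≤ K from le_sup_left)).toEquiv,
    Nat.card_congr (Subgroup.subgroupOfEquivOfLe (show D ≤ K from le_sup_right)).toEquiv, hcE, hcD] at h1
  rw [← h1]; norm_num

theorem chkDE' : ((List.range 4).all fun i => (Nat.beq i 0 || LE.all fun Q => df (LD.getD i idP) Q) &&
    LE.all fun Q => df (LD.getD (4 + i) idP) Q) = true := by decide +kernel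

theorem okD_get (i : ℕ) : ok3 (LD.getD i idP) = true := by
  by_cases hi : i < LD.length
  · rw [List.getD_eq_getElem _ _ hi]
    exact okl_D (List.getElem_mem hi)
  · rw [List.getD_eq_default _ _ (by omega)]
    exact ok3_idP

theorem ok_r : ok3 (pcomp ps pt') = true := ok3_pcomp ok_s ok_t

theorem pow_st (i : Fin 4) : (e3 ps * e3 pt') ^ (i : ℕ) = e3 (LD.getD i idP) ∧
    (e3 ps * e3 pt') ^ (i : ℕ) * e3 ps = e3 (LD.getD (4 + i) idP) := by
  have h0 : LD.getD 0 idP = idP := by rw [chkD]; rfl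
  have h1 : LD.getD 1 idP = pcomp ps pt' := by rw [chkD]; rfl
  have h2 : LD.getD 2 idP = pcomp (pcomp ps pt') (pcomp ps pt') := by rw [chkD]; rfl
  have h3 : LD.getD 3 idP = pcomp (pcomp (pcomp ps pt') (pcomp ps pt')) (pcomp ps pt') := by rw [chkD]; rfl
  have h4 : LD.getD 4 idP = ps := by rw [chkD]; rfl
  have h5 : LD.getD 5 idP = pcomp (pcomp ps pt') ps := by rw [chkD]; rfl
  have h6 : LD.getD 6 idP = pcomp (pcomp (pcomp ps pt') (pcomp ps pt')) ps := by rw [chkD]; rfl
  have h7 : LD.getD 7 idP = pcomp (pcomp (pcomp (pcomp ps pt') (pcomp ps pt')) (pcomp ps pt')) ps := by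
    rw [chkD]; rfl
  have e1 : e3 ps * e3 pt' = e3 (pcomp ps pt') := (e3_pcomp ok_s ok_t).symm
  have e2 : e3 (pcomp ps pt') * e3 (pcomp ps pt') = e3 (pcomp (pcomp ps pt') (pcomp ps pt')) :=
    (e3_pcomp ok_r ok_r).symm
  have ok2 : ok3 (pcomp (pcomp ps pt') (pcomp ps pt')) = true := ok3_pcomp ok_r ok_r
  have e3' : e3 (pcomp (pcomp ps pt') (pcomp ps pt')) * e3 (pcomp ps pt') =
      e3 (pcomp (pcomp (pcomp ps pt') (pcomp ps pt')) (pcomp ps pt')) := (e3_pcomp ok2 ok_r).symm
  have ok3' : ok3 (pcomp (pcomp (pcomp ps pt') (pcomp ps pt')) (pcomp ps pt')) = true := ok3_pcomp ok2 ok_r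
  rw [e1]
  fin_cases i
  · show e3 (pcomp ps pt') ^ 0 = e3 (LD.getD 0 idP) ∧ e3 (pcomp ps pt') ^ 0 * e3 ps = e3 (LD.getD 4 idP)
    rw [pow_zero, h0, e3_idP, one_mul, h4]
    exact ⟨rfl, rfl⟩
  · show e3 (pcomp ps pt') ^ 1 = e3 (LD.getD 1 idP) ∧ e3 (pcomp ps pt') ^ 1 * e3 ps = e3 (LD.getD 5 idP)
    rw [pow_one, h1, h5, e3_pcomp ok_r ok_s]
    exact ⟨rfl, rfl⟩
  · show e3 (pcomp ps pt') ^ 2 = e3 (LD.getD 2 idP) ∧ e3 (pcomp ps pt') ^ 2 * e3 ps = e3 (LD.getD 6 idP)
    rw [pow_two, e2, h2, h6, e3_pcomp ok2 ok_s]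
    exact ⟨rfl, rfl⟩
  · show e3 (pcomp ps pt') ^ 3 = e3 (LD.getD 3 idP) ∧ e3 (pcomp ps pt') ^ 3 * e3 ps = e3 (LD.getD 7 idP)
    rw [pow_succ, pow_two, e2, e3', h3, h7, e3_pcomp ok3' ok_s]
    exact ⟨rfl, rfl⟩

/-- **`M23` has no perfect double cover.** -/
theorem noDouble : NoDouble M23 := by
  intro L _ _ π c hd
  have h : Cov π c := ⟨⟨hd.ne, hd.sq, hd.cen, hd.surj, hd.ker⟩, hd.perf⟩
  have hF : ∀ P ∈ LE, (∃ Q ∈ LE, pcomp pf P = pcomp Q pf) ∧ (∃ Q ∈ LE, pcomp P pf = pcomp pf Q) ∧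
      (∃ Q ∈ LE, pcomp Q pf = pcomp P (pcomp pf Q)) ∧ (∃ Q ∈ LE, pcomp ps P = pcomp Q ps) ∧
      (∃ Q ∈ LE, pcomp pt' P = pcomp Q pt') ∧ (P = idP ∨ df (pcomp P pf) (pcomp pf P) = true) := by
    intro P hP
    have hk := chkF
    rw [List.all_eq_true] at hk
    have h1 := hk P hP
    simp only [Bool.and_eq_true, Bool.or_eq_true, List.any_eq_true] at h1
    obtain ⟨⟨⟨⟨⟨⟨Q1, m1, h1⟩, ⟨Q2, m2, h2⟩⟩, ⟨Q3, m3, h3⟩⟩, ⟨Q4, m4, h4⟩⟩, ⟨Q5, m5, h5⟩⟩, h6⟩ := h1
    exact ⟨⟨Q1, m1, Nat.eq_of_beq_eq_true h1⟩, ⟨Q2, m2, Nat.eq_of_beq_eq_true h2⟩, ⟨Q3, m3, Nat.eq_of_beq_eq_true h3⟩,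
      ⟨Q4, m4, Nat.eq_of_beq_eq_true h4⟩, ⟨Q5, m5, Nat.eq_of_beq_eq_true h5⟩, h6.imp Nat.eq_of_beq_eq_true id⟩
  have hS := chkSF
  simp only [Bool.and_eq_true] at hS
  obtain ⟨⟨⟨⟨⟨⟨⟨⟨s1, s2⟩, s3⟩, s4⟩, s5⟩, s6⟩, s7⟩, s8⟩, s9⟩ := hS
  have okrr : ok3 (pcomp (pcomp ps pt') (pcomp ps pt')) = true := ok3_pcomp ok_r ok_r
  have hinvf : (e3 pf)⁻¹ = e3 pfi := by
    apply inv_eq_of_mul_eq_one_right
    rw [mul_eq1 ok_f ok_fi (Nat.eq_of_beq_eq_true s3), e3_idP]
  refine Split.false_of_fpf h (E := lsub LE okE) (D := lsub LD okD) (f := e3 pf) (s := e3 ps) (t := e3 pt')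
    ?_ ?_ ?_ ?_ ?_ ?_ (good_C h.toExt s7) (good_C h.toExt s8) ?_ ?_ ?_ ?_ ?_ ?_ ?_ ?_ index_odd
  · rintro _ ⟨P, hP, rfl⟩
    exact good_E h.toExt hP
  · rintro _ ⟨P, hP, rfl⟩
    obtain ⟨Q, hQ, h1⟩ := (hF P hP).1
    refine ⟨Q, hQ, ?_⟩
    rw [mul_eq ok_f (okl_E hP) (okl_E hQ) ok_f h1, mul_inv_cancel_right]
  · rintro _ ⟨P, hP, rfl⟩
    obtain ⟨Q, hQ, h1⟩ := (hF P hP).2.1
    refine ⟨Q, hQ, ?_⟩
    rw [mul_assoc, mul_eq (okl_E hP) ok_f ok_f (okl_E hQ) h1, inv_mul_cancel_left]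
  · rintro _ ⟨P, hP, rfl⟩ h1
    rcases (hF P hP).2.2.2.2.2 with h2 | h2
    · rw [h2, e3_idP]
    · rw [← e3_pcomp (okl_E hP) ok_f, ← e3_pcomp ok_f (okl_E hP)] at h1
      exact absurd h1 (ne_of_df (ok3_pcomp (okl_E hP) ok_f) (ok3_pcomp ok_f (okl_E hP)) h2)
  · rintro _ ⟨P, hP, rfl⟩
    obtain ⟨Q, hQ, h1⟩ := (hF P hP).2.2.1
    refine ⟨e3 Q, ⟨Q, hQ, rfl⟩, ?_⟩
    have h2 : e3 Q * e3 pf = e3 P * (e3 pf * e3 Q) := by
      rw [← e3_pcomp (okl_E hQ) ok_f, ← e3_pcomp ok_f (okl_E hQ),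
        ← e3_pcomp (okl_E hP) (ok3_pcomp ok_f (okl_E hQ)), h1]
    rw [h2]; group
  · rintro _ ⟨P, hP, rfl⟩
    have ms : e3 ps ∈ Subgroup.closure {e3 ps, e3 pt'} := Subgroup.subset_closure (Or.inl rfl)
    have mt : e3 pt' ∈ Subgroup.closure {e3 ps, e3 pt'} := Subgroup.subset_closure (Or.inr rfl)
    have mi : ∀ i : Fin 4, e3 (LD.getD i idP) ∈ Subgroup.closure {e3 ps, e3 pt'} ∧
        e3 (LD.getD (4 + i) idP) ∈ Subgroup.closure {e3 ps, e3 pt'} := fun i => by
      rw [← (pow_st i).1, ← (pow_st i).2]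
      exact ⟨pow_mem (mul_mem ms mt) _, mul_mem (pow_mem (mul_mem ms mt) _) ms⟩
    have hlen : LD.length = 8 := rfl
    obtain ⟨n, hn, hnP⟩ := List.getElem_of_mem hP
    have e : P = LD.getD n idP := by rw [List.getD_eq_getElem _ _ hn, hnP]
    rw [hlen] at hn
    rw [e]
    by_cases h4 : n < 4
    · exact (mi ⟨n, h4⟩).1
    · have := (mi ⟨n - 4, by omega⟩).2
      rwa [show 4 + ((⟨n - 4, by omega⟩ : Fin 4) : ℕ) = n from by show 4 + (n - 4) = n; omega] at this
  · rw [← e3_pcomp ok_s ok_t, ← e3_pcomp ok_r ok_r]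
    exact good_C h.toExt s9
  · have : e3 (pcomp (pcomp (pcomp ps pt') (pcomp ps pt')) (pcomp (pcomp ps pt') (pcomp ps pt'))) = 1 := by
      rw [Nat.eq_of_beq_eq_true s6, e3_idP]
    rw [← this, e3_pcomp okrr okrr, e3_pcomp ok_r ok_r, e3_pcomp ok_s ok_t]
    simp only [pow_succ, pow_zero, one_mul, mul_assoc]
  · rintro _ ⟨P, hP, rfl⟩
    obtain ⟨Q, hQ, h1⟩ := (hF P hP).2.2.2.1
    refine ⟨Q, hQ, ?_⟩
    rw [mul_eq ok_s (okl_E hP) (okl_E hQ) ok_s h1, mul_inv_cancel_right]
  · rintro _ ⟨P, hP, rfl⟩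
    obtain ⟨Q, hQ, h1⟩ := (hF P hP).2.2.2.2.1
    refine ⟨Q, hQ, ?_⟩
    rw [mul_eq ok_t (okl_E hP) (okl_E hQ) ok_t h1, mul_inv_cancel_right]
  · right
    rw [mul_eq ok_s ok_f ok_fi ok_s (Nat.eq_of_beq_eq_true s1), mul_inv_cancel_right, hinvf]
  · left
    rw [mul_eq ok_t ok_f ok_f ok_t (Nat.eq_of_beq_eq_true s2), mul_inv_cancel_right]
  · rintro i hi ⟨Q, hQ, h1⟩
    have hk := chkDE'
    simp only [Bool.and_eq_true, Bool.or_eq_true, List.all_eq_true, List.mem_range] at hk
    rw [(pow_st i).1] at h1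
    rcases (hk i i.2).1 with h2 | h2
    · exact hi (Fin.ext (Nat.eq_of_beq_eq_true h2))
    · exact ne_of_df (okD_get _) (okl_E hQ) (h2 Q hQ) h1
  · rintro i ⟨Q, hQ, h1⟩
    have hk := chkDE'
    simp only [Bool.and_eq_true, Bool.or_eq_true, List.all_eq_true, List.mem_range] at hk
    rw [(pow_st i).2] at h1
    exact ne_of_df (okD_get _) (okl_E hQ) ((hk i i.2).2 Q hQ) h1

end Cfsg.Agent.KFacts.MulM23.Main
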