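import Cfsg.Agent.KFacts.MulCov

/-!
# No perfect double cover: `E : D₈` of odd index, a fixed point free element normalised by `D₈` (helper40)

`Cov.false_of_fpf`: `E` an elementary abelian subgroup of `X`, `f` acts fixed point freely on `E`, the involutions `s`, `t`
generate a dihedral group of order 8 that normalises `E` and `⟨f⟩`; all the involutions of `E` and `s`, `t`, `(s t) ^ 2`
lift to involutions. Then `E ⊔ ⟨s, t⟩` splits, so its index is even.
-/

set_option autoImplicit false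

namespace Cfsg.Agent.KFacts.MulM23.Split

open Subgroup
open Cfsg.Agent.KFacts.MulCov

universe u v

variable {L : Type u} {X : Type v} [Group L] [Group X] {π : L →* X} {c : L}

/-- `y ↦ [y, F]` -/
def kap (F y : L) : L := y * F * y⁻¹ * F⁻¹

/-- the image of the preimage of `E` under `y ↦ [y, F]` -/
def Eh (E : Subgroup X) (F : L) (hcom : ∀ a b : L, π a ∈ E → π b ∈ E → a * b = b * a)
    (hF : ∀ y : L, π y ∈ E → π (kap F y) ∈ E) : Subgroup L where
  carrier := {x | ∃ y, π y ∈ E ∧ x = kap F y}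
  one_mem' := ⟨1, by rw [map_one]; exact one_mem _, by unfold kap; group⟩
  mul_mem' := by
    rintro _ _ ⟨y, hy, rfl⟩ ⟨z, hz, rfl⟩
    refine ⟨y * z, by rw [map_mul]; exact mul_mem hy hz, ?_⟩
    have h1 := hcom (kap F z) y (hF z hz) hy
    calc kap F y * kap F z = y * (F * y⁻¹ * F⁻¹ * kap F z) := by unfold kap; group
      _ = y * (kap F z * (F * y⁻¹ * F⁻¹)) := by
          rw [hcom (F * y⁻¹ * F⁻¹) (kap F z) ?_ (hF z hz)]
          have e : F * y⁻¹ * F⁻¹ = y⁻¹ * kap F y := by unfold kap; group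
          rw [e, map_mul, map_inv]
          exact mul_mem (inv_mem hy) (hF y hy)
      _ = kap F (y * z) := by unfold kap; group
  inv_mem' := by
    rintro _ ⟨y, hy, rfl⟩
    refine ⟨y⁻¹, by rw [map_inv]; exact inv_mem hy, ?_⟩
    have h1 : y⁻¹ * kap F y = kap F y * y⁻¹ := hcom _ _ (by rw [map_inv]; exact inv_mem hy) (hF y hy)
    have e : (kap F y)⁻¹ * (y⁻¹ * kap F y) = y⁻¹ := by rw [h1]; group
    calc (kap F y)⁻¹ = F * y * F⁻¹ * y⁻¹ := by unfold kap; group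
      _ = y⁻¹ * (y * F * y * F⁻¹ * y⁻¹) := by group
      _ = kap F y⁻¹ := by
        have h2 : y * (F * y * F⁻¹) = (F * y * F⁻¹) * y := by
          apply hcom _ _ hy
          have e : F * y * F⁻¹ = (kap F y)⁻¹ * y := by unfold kap; group
          rw [e, map_mul, map_inv]
          exact mul_mem (inv_mem (hF y hy)) hy
        unfold kap
        calc y⁻¹ * (y * F * y * F⁻¹ * y⁻¹) = y⁻¹ * (y * (F * y * F⁻¹)) * y⁻¹ := by group
          _ = y⁻¹ * ((F * y * F⁻¹) * y) * y⁻¹ := by rw [h2]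
          _ = _ := by group

theorem mem_Eh {E : Subgroup X} {F : L} {hcom : ∀ a b : L, π a ∈ E → π b ∈ E → a * b = b * a}
    {hF : ∀ y : L, π y ∈ E → π (kap F y) ∈ E} {x : L} :
    x ∈ Eh E F hcom hF ↔ ∃ y, π y ∈ E ∧ x = kap F y := Iff.rfl

theorem conj_mem (h : Ext π c) {E : Subgroup X} {F : L} {hcom : ∀ a b : L, π a ∈ E → π b ∈ E → a * b = b * a}
    {hF : ∀ y : L, π y ∈ E → π (kap F y) ∈ E} (hFE : ∀ y : L, π y ∈ E → π (F⁻¹ * y * F) ∈ E) {S : L}
    (hS : ∀ y : L, π y ∈ E → π (S * y * S⁻¹) ∈ E)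
    (hSF : π S * π F * (π S)⁻¹ = π F ∨ π S * π F * (π S)⁻¹ = (π F)⁻¹) {x : L} (hx : x ∈ Eh E F hcom hF) :
    S * x * S⁻¹ ∈ Eh E F hcom hF := by
  obtain ⟨y, hy, rfl⟩ := hx
  have key : ∀ F' : L, π (S * F * S⁻¹) = π F' → S * kap F y * S⁻¹ = kap F' (S * y * S⁻¹) := by
    intro F' hF'
    have h1 : S * kap F y * S⁻¹ = kap (S * F * S⁻¹) (S * y * S⁻¹) := by unfold kap; group
    rw [h1]
    rcases h.eq_or hF' with h2 | h2
    · rw [h2]
    · rw [h2]
      unfold kap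
      have h3 : (F' * c)⁻¹ = c⁻¹ * F'⁻¹ := mul_inv_rev _ _
      rw [h3]
      have h4 : ∀ w : L, w * c = c * w := fun w => (h.cen w).symm
      calc S * y * S⁻¹ * (F' * c) * (S * y * S⁻¹)⁻¹ * (c⁻¹ * F'⁻¹)
          = S * y * S⁻¹ * F' * (c * (S * y * S⁻¹)⁻¹) * (c⁻¹ * F'⁻¹) := by group
        _ = S * y * S⁻¹ * F' * ((S * y * S⁻¹)⁻¹ * c) * (c⁻¹ * F'⁻¹) := by rw [h.cen]
        _ = _ := by group
  rcases hSF with h1 | h1
  · refine ⟨S * y * S⁻¹, hS y hy, key F ?_⟩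
    rw [map_mul, map_mul, map_inv, h1]
  · rw [key F⁻¹ (by rw [map_mul, map_mul, map_inv, h1, map_inv])]
    have h2 : kap F⁻¹ (S * y * S⁻¹) = (kap F (F⁻¹ * (S * y * S⁻¹) * F))⁻¹ := by
      unfold kap; group
    rw [h2]
    exact inv_mem ⟨_, hFE _ (hS y hy), rfl⟩

/-- the product of two subgroups, the second normalising the first -/
def prod (A B : Subgroup L) (hn : ∀ b ∈ B, ∀ a ∈ A, b * a * b⁻¹ ∈ A) : Subgroup L where
  carrier := {x | ∃ a ∈ A, ∃ b ∈ B, x = a * b}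
  one_mem' := ⟨1, one_mem _, 1, one_mem _, by group⟩
  mul_mem' := by
    rintro _ _ ⟨a, ha, b, hb, rfl⟩ ⟨a', ha', b', hb', rfl⟩
    exact ⟨a * (b * a' * b⁻¹), mul_mem ha (hn b hb a' ha'), b * b', mul_mem hb hb', by group⟩
  inv_mem' := by
    rintro _ ⟨a, ha, b, hb, rfl⟩
    refine ⟨b⁻¹ * a⁻¹ * (b⁻¹)⁻¹, hn _ (inv_mem hb) _ (inv_mem ha), b⁻¹, inv_mem hb, by group⟩

theorem mem_prod {A B : Subgroup L} {hn : ∀ b ∈ B, ∀ a ∈ A, b * a * b⁻¹ ∈ A} {x : L} :
    x ∈ prod A B hn ↔ ∃ a ∈ A, ∃ b ∈ B, x = a * b := Iff.rfl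

/-- the elements of a dihedral group -/
theorem mem_closure_pair {G : Type*} [Group G] {S T : G} (hS : S * S = 1) (hT : T * T = 1) {x : G}
    (hx : x ∈ closure {S, T}) : ∃ i : ℤ, x = (S * T) ^ i ∨ x = (S * T) ^ i * S := by
  have hSi : S⁻¹ = S := inv_eq_of_mul_eq_one_left hS
  have hTi : T⁻¹ = T := inv_eq_of_mul_eq_one_left hT
  have hR : S * (S * T) * S⁻¹ = (S * T)⁻¹ := by
    rw [mul_inv_rev, hSi, hTi, ← mul_assoc S S T, hS, one_mul]
  have hRp : ∀ i : ℤ, S * (S * T) ^ i * S⁻¹ = (S * T) ^ (-i) := by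
    intro i
    rw [← conj_zpow, hR, inv_zpow']
  have hRp' : ∀ i : ℤ, S * (S * T) ^ i = (S * T) ^ (-i) * S := by
    intro i
    rw [← hRp i]; group
  refine closure_induction (p := fun x _ => ∃ i : ℤ, x = (S * T) ^ i ∨ x = (S * T) ^ i * S) ?_ ?_ ?_ ?_ hx
  · rintro y (rfl | hy)
    · exact ⟨0, Or.inr (by rw [zpow_zero, one_mul])⟩
    · obtain rfl : y = T := hy
      refine ⟨-1, Or.inr ?_⟩
      rw [← hRp' 1, zpow_one, ← mul_assoc, hS, one_mul]
  · exact ⟨0, Or.inl (by rw [zpow_zero])⟩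
  · rintro a b _ _ ⟨i, hi⟩ ⟨j, hj⟩
    rcases hi with rfl | rfl <;> rcases hj with rfl | rfl
    · exact ⟨i + j, Or.inl (by rw [zpow_add])⟩
    · exact ⟨i + j, Or.inr (by rw [zpow_add, mul_assoc])⟩
    · refine ⟨i - j, Or.inr ?_⟩
      rw [mul_assoc, hRp' j, ← mul_assoc, ← zpow_add, sub_eq_add_neg]
    · refine ⟨i - j, Or.inl ?_⟩
      calc (S * T) ^ i * S * ((S * T) ^ j * S) = (S * T) ^ i * (S * (S * T) ^ j) * S := by group
        _ = (S * T) ^ i * ((S * T) ^ (-j) * S) * S := by rw [hRp' j]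
        _ = (S * T) ^ i * (S * T) ^ (-j) * (S * S) := by group
        _ = _ := by rw [hS, mul_one, ← zpow_add, sub_eq_add_neg]
  · rintro a _ ⟨i, rfl | rfl⟩
    · exact ⟨-i, Or.inl (by rw [zpow_neg])⟩
    · refine ⟨i, Or.inr ?_⟩
      rw [mul_inv_rev, hSi, ← zpow_neg, hRp' (-i), neg_neg]

theorem false_of_fpf [Finite L] (h : Cov π c) {E D : Subgroup X} {f s t : X} (good : ∀ a ∈ E, Good π a)
    (hfE : ∀ a ∈ E, f * a * f⁻¹ ∈ E) (hfE' : ∀ a ∈ E, f⁻¹ * a * f ∈ E) (hfp : ∀ a ∈ E, a * f = f * a → a = 1)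
    (hsurj : ∀ a ∈ E, ∃ b ∈ E, b * f * b⁻¹ * f⁻¹ = a) (hD : D ≤ closure {s, t})
    (hs : Good π s) (ht : Good π t) (h2 : Good π (s * t * (s * t))) (h4 : (s * t) ^ 4 = 1)
    (hsE : ∀ a ∈ E, s * a * s⁻¹ ∈ E) (htE : ∀ a ∈ E, t * a * t⁻¹ ∈ E)
    (hsf : s * f * s⁻¹ = f ∨ s * f * s⁻¹ = f⁻¹) (htf : t * f * t⁻¹ = f ∨ t * f * t⁻¹ = f⁻¹)
    (hED : ∀ i : Fin 4, i ≠ 0 → (s * t) ^ (i : ℕ) ∉ E) (hED' : ∀ i : Fin 4, (s * t) ^ (i : ℕ) * s ∉ E)
    (hP : ¬ 2 ∣ (E ⊔ D).index) : False := by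
  obtain ⟨F, hF⟩ := h.surj f
  obtain ⟨S, hS⟩ := h.surj s
  obtain ⟨T, hT⟩ := h.surj t
  -- the preimage of `E` is elementary abelian
  have sqE : ∀ a : L, π a ∈ E → a * a = 1 := fun a ha => good _ ha a rfl
  have hcom : ∀ a b : L, π a ∈ E → π b ∈ E → a * b = b * a := by
    intro a b ha hb
    have h3 := sqE (a * b) (by rw [map_mul]; exact mul_mem ha hb)
    calc a * b = (a * b)⁻¹ := (inv_eq_of_mul_eq_one_left h3).symm
      _ = b * a := by
        rw [mul_inv_rev, inv_eq_of_mul_eq_one_left (sqE a ha), inv_eq_of_mul_eq_one_left (sqE b hb)]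
  have hk : ∀ y : L, π y ∈ E → π (kap F y) ∈ E := by
    intro y hy
    have e : kap F y = y * (F * y⁻¹ * F⁻¹) := by unfold kap; group
    rw [e, map_mul, map_mul, map_mul, map_inv, map_inv, hF]
    exact mul_mem hy (hfE _ (inv_mem hy))
  have hFE : ∀ y : L, π y ∈ E → π (F⁻¹ * y * F) ∈ E := by
    intro y hy
    rw [map_mul, map_mul, map_inv, hF]
    exact hfE' _ hy
  set Ê := Eh E F hcom hk with hÊ
  have nS : ∀ x ∈ Ê, S * x * S⁻¹ ∈ Ê := fun x hx => by
    refine conj_mem h.toExt hFE ?_ ?_ hx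
    · intro y hy
      rw [map_mul, map_mul, map_inv, hS]
      exact hsE _ hy
    · rw [hS, hF]; exact hsf
  have nT : ∀ x ∈ Ê, T * x * T⁻¹ ∈ Ê := fun x hx => by
    refine conj_mem h.toExt hFE ?_ ?_ hx
    · intro y hy
      rw [map_mul, map_mul, map_inv, hT]
      exact htE _ hy
    · rw [hT, hF]; exact htf
  have hSS : S * S = 1 := hs S hS
  have hTT : T * T = 1 := ht T hT
  have hn : ∀ b ∈ closure {S, T}, ∀ a ∈ Ê, b * a * b⁻¹ ∈ Ê := by
    have hle : closure {S, T} ≤ normalizer (Ê : Set L) := by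
      rw [closure_le]
      have key : ∀ U : L, U * U = 1 → (∀ x ∈ Ê, U * x * U⁻¹ ∈ Ê) → U ∈ normalizer (Ê : Set L) := by
        intro U hU hx
        rw [mem_normalizer_iff]
        intro x
        refine ⟨hx x, fun h1 => ?_⟩
        have h3 := hx _ h1
        have e : U * (U * x * U⁻¹) * U⁻¹ = (U * U) * x * (U * U)⁻¹ := by group
        rw [e, hU, one_mul, inv_one, mul_one] at h3
        exact h3
      rintro x (rfl | hx)
      · exact key _ hSS nS
      · obtain rfl : x = T := hx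
        exact key _ hTT nT
    intro b hb a ha
    exact (mem_normalizer_iff.1 (hle hb) a).1 ha
  -- the dihedral group
  have hR4 : (S * T) ^ 4 = 1 := by
    have h3 : (S * T * (S * T)) * (S * T * (S * T)) = 1 := h2 _ (by rw [map_mul, map_mul, hS, hT])
    rw [← h3]; simp only [pow_succ, pow_zero, one_mul, mul_assoc]
  have hcÊ : c ∉ Ê := by
    rintro ⟨y, hy, hcy⟩
    have h3 : π (kap F y) = 1 := by rw [← hcy, h.map_c]
    have h5 : π y = 1 := by
      apply hfp _ hy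
      unfold kap at h3
      rw [map_mul, map_mul, map_mul, map_inv, map_inv, hF] at h3
      rw [mul_inv_eq_one] at h3
      rw [mul_inv_eq_iff_eq_mul] at h3
      exact h3
    have h6 : kap F y = 1 := by
      rcases (h.ker y).1 h5 with rfl | rfl
      · unfold kap; group
      · unfold kap
        rw [h.cen F]; group
    rw [h6] at hcy
    exact h.ne hcy
  refine h.false_of_subgroup hP (P₁ := prod Ê (closure {S, T}) hn) ?_ ?_
  · rintro ⟨a, ha, d, hd, hcd⟩
    obtain ⟨i, hi⟩ := mem_closure_pair hSS hTT hd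
    -- reduce `i` modulo 4
    have hmod : (S * T) ^ i = (S * T) ^ ((i % 4).toNat) := by
      have h3 : ((i % 4).toNat : ℤ) = i % 4 := Int.toNat_of_nonneg (Int.emod_nonneg _ (by norm_num))
      rw [← zpow_natCast, h3]
      conv_lhs => rw [← Int.mul_ediv_add_emod i 4]
      rw [zpow_add, zpow_mul]
      have : (S * T) ^ (4 : ℤ) = 1 := by exact_mod_cast hR4
      rw [this, one_zpow, one_mul]
    have hlt : (i % 4).toNat < 4 := by
      have := Int.emod_lt_of_pos i (show (0 : ℤ) < 4 by norm_num)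
      have h3 := Int.emod_nonneg i (show (4 : ℤ) ≠ 0 by norm_num)
      omega
    have hdE : π d ∈ E := by
      have h3 : d = a⁻¹ * c := by rw [hcd]; group
      obtain ⟨y, hy, rfl⟩ := ha
      rw [h3, map_mul, h.map_c, mul_one, map_inv]
      exact inv_mem (hk y hy)
    have hST : ∀ n : ℕ, π ((S * T) ^ n) = (s * t) ^ n := fun n => by rw [map_pow, map_mul, hS, hT]
    rcases hi with rfl | rfl
    · rw [hmod] at hdE hcd
      rw [hST] at hdE
      by_cases h0 : (⟨(i % 4).toNat, hlt⟩ : Fin 4) = 0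
      · have h00 : (i % 4).toNat = 0 := congrArg Fin.val h0
        rw [h00, pow_zero, mul_one] at hcd
        rw [hcd] at hcÊ
        exact hcÊ ha
      · exact hED ⟨_, hlt⟩ h0 hdE
    · rw [hmod] at hdE
      rw [map_mul, hST, hS] at hdE
      exact hED' ⟨_, hlt⟩ hdE
  · rw [sup_le_iff]
    constructor
    · intro a ha
      obtain ⟨b, hb, hba⟩ := hsurj a ha
      obtain ⟨y, rfl⟩ := h.surj b
      refine ⟨kap F y, ⟨kap F y, ⟨y, hb, rfl⟩, 1, one_mem _, by rw [mul_one]⟩, ?_⟩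
      unfold kap
      rw [map_mul, map_mul, map_mul, map_inv, map_inv, hF, hba]
    · have h3 : closure {s, t} ≤ (closure {S, T}).map π := by
        rw [closure_le]
        rintro x (rfl | hx)
        · exact ⟨S, subset_closure (Or.inl rfl), hS⟩
        · obtain rfl : x = t := hx
          exact ⟨T, subset_closure (Or.inr rfl), hT⟩
      refine (hD.trans h3).trans (map_mono ?_)
      intro x hx
      exact ⟨1, one_mem _, x, hx, by rw [one_mul]⟩

end Cfsg.Agent.KFacts.MulM23.Split
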